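import Mathlib
import Cfsg.Agent.Lib.Helper56.TC
import Cfsg.Agent.Lib.Helper28.G2Mult.L1.C0
import Cfsg.Agent.Lib.Helper28.G2Mult.L1.C1
import Cfsg.Agent.Lib.Helper28.G2Mult.L1.C2
import Cfsg.Agent.Lib.Helper28.G2Mult.L1.C3
import Cfsg.Agent.Lib.Helper28.G2Mult.L1.C4
import Cfsg.Agent.Lib.Helper28.G2Mult.L1.C5
import Cfsg.Agent.Lib.Helper28.G2Mult.L1.C6
import Cfsg.Agent.Lib.Helper28.G2Mult.L1.C7
set_option autoImplicit false
set_option maxRecDepth 1000000

namespace Cfsg.Agent.Lib.Helper28.G2Mult.L1

open Cfsg.Agent.Lib.Helper56.TC Cfsg.Agent.Lib.Helper56.TC.Tabs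
open Cfsg.Agent.Lib.Helper28.CovL

theorem uN_647 : Upto T.chkName 647 := upto_add (upto_zero T.chkName) rfl cN_0
theorem uN_1311 : Upto T.chkName 1311 := upto_add uN_647 rfl cN_647
theorem uN_1957 : Upto T.chkName 1957 := upto_add uN_1311 rfl cN_1311
theorem uN_2583 : Upto T.chkName 2583 := upto_add uN_1957 rfl cN_1957
theorem uN_3259 : Upto T.chkName 3259 := upto_add uN_2583 rfl cN_2583
theorem uN_3925 : Upto T.chkName 3925 := upto_add uN_3259 rfl cN_3259
theorem uN_4558 : Upto T.chkName 4558 := upto_add uN_3925 rfl cN_3925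
theorem uN_5193 : Upto T.chkName 5193 := upto_add uN_4558 rfl cN_4558
theorem uN_5849 : Upto T.chkName 5849 := upto_add uN_5193 rfl cN_5193
theorem uN_6505 : Upto T.chkName 6505 := upto_add uN_5849 rfl cN_5849
theorem uN_7121 : Upto T.chkName 7121 := upto_add uN_6505 rfl cN_6505
theorem uN_7729 : Upto T.chkName 7729 := upto_add uN_7121 rfl cN_7121
theorem uN_8343 : Upto T.chkName 8343 := upto_add uN_7729 rfl cN_7729
theorem uN_8956 : Upto T.chkName 8956 := upto_add uN_8343 rfl cN_8343
theorem uN_9607 : Upto T.chkName 9607 := upto_add uN_8956 rfl cN_8956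
theorem uN_10229 : Upto T.chkName 10229 := upto_add uN_9607 rfl cN_9607
theorem uN_10858 : Upto T.chkName 10858 := upto_add uN_10229 rfl cN_10229
theorem uN_11506 : Upto T.chkName 11506 := upto_add uN_10858 rfl cN_10858
theorem uN_12150 : Upto T.chkName 12150 := upto_add uN_11506 rfl cN_11506
theorem uN_12779 : Upto T.chkName 12779 := upto_add uN_12150 rfl cN_12150
theorem uN_13417 : Upto T.chkName 13417 := upto_add uN_12779 rfl cN_12779
theorem uN_14023 : Upto T.chkName 14023 := upto_add uN_13417 rfl cN_13417
theorem uN_14673 : Upto T.chkName 14673 := upto_add uN_14023 rfl cN_14023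
theorem uN_15281 : Upto T.chkName 15281 := upto_add uN_14673 rfl cN_14673
theorem uN_15911 : Upto T.chkName 15911 := upto_add uN_15281 rfl cN_15281
theorem uN_16579 : Upto T.chkName 16579 := upto_add uN_15911 rfl cN_15911
theorem uN_17246 : Upto T.chkName 17246 := upto_add uN_16579 rfl cN_16579
theorem uN_17766 : Upto T.chkName 17766 := upto_add uN_17246 rfl cN_17246
theorem uN_18307 : Upto T.chkName 18307 := upto_add uN_17766 rfl cN_17766
theorem uN_18826 : Upto T.chkName 18826 := upto_add uN_18307 rfl cN_18307
theorem uN_19348 : Upto T.chkName 19348 := upto_add uN_18826 rfl cN_18826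
theorem uN_19900 : Upto T.chkName 19900 := upto_add uN_19348 rfl cN_19348
theorem uN_20449 : Upto T.chkName 20449 := upto_add uN_19900 rfl cN_19900
theorem uN_21006 : Upto T.chkName 21006 := upto_add uN_20449 rfl cN_20449
theorem uN_21535 : Upto T.chkName 21535 := upto_add uN_21006 rfl cN_21006
theorem uN_22115 : Upto T.chkName 22115 := upto_add uN_21535 rfl cN_21535
theorem uN_22722 : Upto T.chkName 22722 := upto_add uN_22115 rfl cN_22115
theorem uN_23341 : Upto T.chkName 23341 := upto_add uN_22722 rfl cN_22722
theorem uN_23939 : Upto T.chkName 23939 := upto_add uN_23341 rfl cN_23341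
theorem uN_24529 : Upto T.chkName 24529 := upto_add uN_23939 rfl cN_23939
theorem uN_25121 : Upto T.chkName 25121 := upto_add uN_24529 rfl cN_24529
theorem uN_25717 : Upto T.chkName 25717 := upto_add uN_25121 rfl cN_25121
theorem uN_26337 : Upto T.chkName 26337 := upto_add uN_25717 rfl cN_25717
theorem uN_26946 : Upto T.chkName 26946 := upto_add uN_26337 rfl cN_26337
theorem uN_27580 : Upto T.chkName 27580 := upto_add uN_26946 rfl cN_26946
theorem uN_28189 : Upto T.chkName 28189 := upto_add uN_27580 rfl cN_27580
theorem uN_28818 : Upto T.chkName 28818 := upto_add uN_28189 rfl cN_28189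
theorem uN_29448 : Upto T.chkName 29448 := upto_add uN_28818 rfl cN_28818
theorem uN_30059 : Upto T.chkName 30059 := upto_add uN_29448 rfl cN_29448
theorem uN_30654 : Upto T.chkName 30654 := upto_add uN_30059 rfl cN_30059
theorem uN_31199 : Upto T.chkName 31199 := upto_add uN_30654 rfl cN_30654
theorem uN_31733 : Upto T.chkName 31733 := upto_add uN_31199 rfl cN_31199
theorem uN_32278 : Upto T.chkName 32278 := upto_add uN_31733 rfl cN_31733
theorem uN_32866 : Upto T.chkName 32866 := upto_add uN_32278 rfl cN_32278
theorem uN_33446 : Upto T.chkName 33446 := upto_add uN_32866 rfl cN_32866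
theorem uN_33987 : Upto T.chkName 33987 := upto_add uN_33446 rfl cN_33446
theorem uN_34592 : Upto T.chkName 34592 := upto_add uN_33987 rfl cN_33987
theorem uN_35241 : Upto T.chkName 35241 := upto_add uN_34592 rfl cN_34592
theorem uN_35827 : Upto T.chkName 35827 := upto_add uN_35241 rfl cN_35241
theorem uN_36385 : Upto T.chkName 36385 := upto_add uN_35827 rfl cN_35827
theorem uN_36928 : Upto T.chkName 36928 := upto_add uN_36385 rfl cN_36385
theorem uN_37511 : Upto T.chkName 37511 := upto_add uN_36928 rfl cN_36928
theorem uN_38119 : Upto T.chkName 38119 := upto_add uN_37511 rfl cN_37511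
theorem uN_38720 : Upto T.chkName 38720 := upto_add uN_38119 rfl cN_38119
theorem uN_39275 : Upto T.chkName 39275 := upto_add uN_38720 rfl cN_38720
theorem uN_39818 : Upto T.chkName 39818 := upto_add uN_39275 rfl cN_39275
theorem uN_40356 : Upto T.chkName 40356 := upto_add uN_39818 rfl cN_39818
theorem uN_40866 : Upto T.chkName 40866 := upto_add uN_40356 rfl cN_40356
theorem uN_41455 : Upto T.chkName 41455 := upto_add uN_40866 rfl cN_40866
theorem uN_42004 : Upto T.chkName 42004 := upto_add uN_41455 rfl cN_41455
theorem uN_42540 : Upto T.chkName 42540 := upto_add uN_42004 rfl cN_42004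
theorem uN_43108 : Upto T.chkName 43108 := upto_add uN_42540 rfl cN_42540
theorem uN_43649 : Upto T.chkName 43649 := upto_add uN_43108 rfl cN_43108
theorem uN_44216 : Upto T.chkName 44216 := upto_add uN_43649 rfl cN_43649
theorem uN_44818 : Upto T.chkName 44818 := upto_add uN_44216 rfl cN_44216
theorem uN_45387 : Upto T.chkName 45387 := upto_add uN_44818 rfl cN_44818
theorem uN_45966 : Upto T.chkName 45966 := upto_add uN_45387 rfl cN_45387
theorem uN_46532 : Upto T.chkName 46532 := upto_add uN_45966 rfl cN_45966
theorem uN_47124 : Upto T.chkName 47124 := upto_add uN_46532 rfl cN_46532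
theorem uN_47713 : Upto T.chkName 47713 := upto_add uN_47124 rfl cN_47124
theorem uN_48286 : Upto T.chkName 48286 := upto_add uN_47713 rfl cN_47713
theorem uN_48860 : Upto T.chkName 48860 := upto_add uN_48286 rfl cN_48286
theorem uN_49472 : Upto T.chkName 49472 := upto_add uN_48860 rfl cN_48860
theorem uN_50074 : Upto T.chkName 50074 := upto_add uN_49472 rfl cN_49472
theorem uN_50682 : Upto T.chkName 50682 := upto_add uN_50074 rfl cN_50074
theorem uN_51286 : Upto T.chkName 51286 := upto_add uN_50682 rfl cN_50682
theorem uN_51917 : Upto T.chkName 51917 := upto_add uN_51286 rfl cN_51286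
theorem uN_52519 : Upto T.chkName 52519 := upto_add uN_51917 rfl cN_51917
theorem uF_200 : Upto T.chkFinName 200 := upto_add (upto_zero T.chkFinName) rfl cF_0

/-- The certificate is valid. -/
theorem certC : CertC T where
  hNN := by decide +kernel
  hN := by decide +kernel
  hinvK := by decide +kernel
  hinvli := by decide +kernel
  hsubK := by decide +kernel
  hrelK := by decide +kernel
  hrx := by decide +kernel
  hchk := uN_52519
  hfin := uF_200

end Cfsg.Agent.Lib.Helper28.G2Mult.L1
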